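import Cfsg.Agent.Lib.Recog.SporBound.Sound
import Cfsg.Agent.Lib.Recog.FiM22.Enum.Tree0
import Cfsg.Agent.Lib.Recog.FiM22.Enum.Tree1
import Cfsg.Agent.Lib.Recog.FiM22.Enum.Tree2
import Cfsg.Agent.Lib.Recog.FiM22.Enum.Tree3
import Cfsg.Agent.Lib.Recog.FiM22.Enum.Tree4
import Cfsg.Agent.Lib.Recog.FiM22.Enum.Tree5
import Cfsg.Agent.Lib.Recog.FiM22.Enum.Tree6

set_option autoImplicit false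
set_option maxRecDepth 20000

/-! Generated closure certificate: 3510 cosets of a transposition centraliser in a group of type M22 (owner: helper13). -/

namespace CfsgLib.Recog.FiM22.Enum
open CfsgLib.Recog.SporBound

noncomputable def factTree : Q (ℕ) := (.node (.node ft16 ft33 ft50 ft66) (.node ft83 ft100 ft117 ft133) (.node ft150 ft167 ft183 ft199) (.node ft216 ft233 ft249 ft265))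
noncomputable def nodeTree : Q (ℕ) := (.node ct7 ct15 ct23 ct31)
noncomputable def stepTree : Q (List ℕ) := (.node (.node (.node st7 st15 st23 st30) (.node st38 st46 st53 st60) (.node st68 st76 st83 st90) (.node st98 st106 st113 st120)) (.node (.node st128 st136 st144 st151) (.node st159 st167 st174 st181) (.node st189 st197 st204 st211) (.node st219 st227 st234 st241)) (.node (.node st249 st257 st265 st272) (.node st280 st288 st295 st302) (.node st310 st318 st325 st332) (.node st340 st348 st355 st362)) (.node (.node st370 st378 st385 st392) (.node st400 st408 st415 st422) (.node st430 st438 st445 st452) (.node st460 st468 st475 st482)))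
noncomputable def finalTree : Q (List ℕ) := (.node (.node (.node et12 et24 et36 et48) (.node et61 et73 et85 et97) (.node et110 et122 et134 et146) (.node et158 et170 et182 et194)) (.node (.node et207 et219 et231 et243) (.node et256 et268 et280 et292) (.node et304 et316 et328 et340) (.node et352 et364 et376 et388)) (.node (.node et401 et413 et425 et437) (.node et450 et462 et474 et486) (.node et498 et510 et522 et534) (.node et546 et558 et570 et582)) (.node (.node et595 et607 et619 et631) (.node et644 et656 et668 et680) (.node et692 et704 et716 et728) (.node et740 et752 et764 et776)))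

/-- The certificate. -/
noncomputable def cert : Cert where
  n := 3510
  nd := 5112
  nf := 31879
  kl := [0, 1, 2, 3, 4, 5, 6, 7, 8, 9, 10, 11, 12]
  facts := factTree
  cn := nodeTree
  steps := stepTree
  finals := finalTree
  rels := [[0, 0], [1, 1], [2, 2], [3, 3], [4, 4], [5, 5], [6, 6], [7, 7], [8, 8], [9, 9], [10, 10], [11, 11], [12, 12], [2, 3, 2, 3, 2, 3], [2, 4, 2, 4], [2, 5, 2, 5], [2, 6, 2, 6], [2, 7, 2, 7], [2, 8, 2, 8], [2, 9, 2, 9, 2, 9], [2, 10, 2, 10], [2, 11, 2, 11], [2, 12, 2, 12, 2, 12], [3, 4, 3, 4, 3, 4], [3, 5, 3, 5], [3, 6, 3, 6], [3, 7, 3, 7, 3, 7], [3, 8, 3, 8], [3, 9, 3, 9, 3, 9], [3, 10, 3, 10, 3, 10], [3, 11, 3, 11, 3, 11], [3, 12, 3, 12, 3, 12], [4, 5, 4, 5, 4, 5], [4, 6, 4, 6], [4, 7, 4, 7], [4,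 8, 4, 8], [4, 9, 4, 9, 4, 9], [4, 10, 4, 10, 4, 10], [4, 11, 4, 11, 4, 11], [4, 12, 4, 12, 4, 12], [5, 6, 5, 6, 5, 6], [5, 7, 5, 7], [5, 8, 5, 8], [5, 9, 5, 9, 5, 9], [5, 10, 5, 10, 5, 10], [5, 11, 5, 11], [5, 12, 5, 12], [6, 7, 6, 7], [6, 8, 6, 8], [6, 9, 6, 9], [6, 10, 6, 10, 6, 10], [6, 11, 6, 11, 6, 11], [6, 12, 6, 12, 6, 12], [7, 8, 7, 8, 7, 8], [7, 9, 7, 9], [7, 10, 7, 10, 7, 10], [7, 11, 7, 11, 7, 11], [7, 12, 7, 12, 7, 12], [8, 9, 8, 9, 8, 9], [8, 10, 8, 10, 8, 10], [8, 11, 8, 11, 8, 11], [8, 12, 8, 12, 8, 12], [9, 10, 9, 10], [9, 11, 9, 11, 9, 11], [9, 12, 9, 12, 9, 12], [10, 11, 10, 11, 10, 11], [10, 12, 10, 12, 10, 12], [11, 12, 11, 12, 11, 12], [5, 3, 2, 3, 5, 3, 2, 3], [6, 3, 2, 3, 6, 3, 2, 3], [8, 3, 2, 3, 8, 3, 2,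 3], [6, 9, 2, 9, 6, 9, 2, 9], [7, 9, 2, 9, 7, 9, 2, 9], [10, 9, 2, 9, 10, 9, 2, 9], [5, 12, 2, 12, 5, 12, 2, 12], [2, 4, 3, 4, 2, 4, 3, 2, 3, 4], [6, 4, 3, 4, 6, 4, 3, 4], [8, 4, 3, 4, 8, 4, 3, 4], [2, 7, 3, 7, 2, 7, 3, 2, 3, 7], [4, 7, 3, 7, 4, 7, 4, 3, 4, 7], [5, 7, 3, 7, 5, 7, 3, 7], [6, 7, 3, 7, 6, 7, 3, 7], [10, 7, 3, 7, 10, 7, 3, 7], [12, 7, 3, 7, 12, 7, 3, 7], [6, 9, 3, 9, 6, 9, 3, 9], [7, 9, 3, 9, 7, 9, 7, 3, 7, 9], [11, 9, 3, 9, 11, 9, 3, 9], [2, 10, 3, 10, 2, 10, 3, 2, 3, 10], [7, 10, 3, 10, 7, 10, 3, 10], [9, 10, 3, 10, 9, 10, 9, 3, 9, 10], [11, 10, 3, 10, 11, 10, 3, 10], [2, 11, 3, 11, 2, 11, 3, 2, 3, 11], [5, 11, 3, 11, 5, 11, 3, 11], [9, 11, 3, 11, 9, 11, 3, 11], [10, 11, 3, 11, 10, 11, 3, 11], [12, 11, 3, 11, 12,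 11, 3, 11], [5, 12, 3, 12, 5, 12, 3, 12], [7, 12, 3, 12, 7, 12, 3, 12], [11, 12, 3, 12, 11, 12, 3, 12], [2, 5, 4, 5, 2, 5, 4, 5], [3, 5, 4, 5, 3, 5, 4, 3, 4, 5], [7, 5, 4, 5, 7, 5, 4, 5], [8, 5, 4, 5, 8, 5, 4, 5], [10, 5, 4, 5, 10, 5, 4, 5], [2, 9, 4, 9, 2, 4, 9, 2, 9, 4], [6, 9, 4, 9, 6, 9, 4, 9], [7, 9, 4, 9, 7, 9, 4, 9], [2, 10, 4, 10, 2, 10, 4, 10], [5, 10, 4, 10, 5, 10, 4, 10], [9, 10, 4, 10, 9, 10, 9, 4, 9, 10], [11, 10, 4, 10, 11, 10, 4, 10], [2, 11, 4, 11, 2, 11, 4, 11], [5, 11, 4, 11, 5, 11, 5, 4, 5, 11], [10, 11, 4, 11, 10, 11, 4, 11], [12, 11, 4, 11, 12, 9, 8, 9], [2, 12, 4, 12, 2, 4, 12, 2, 12, 4], [5, 12, 4, 12, 5, 12, 5, 4, 5, 12], [11, 12, 4, 12, 11, 8, 9, 4, 9, 8], [2, 6, 5, 6, 2, 6, 5, 6], [3, 6, 5, 6, 3, 6, 5,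 6], [4, 6, 5, 6, 4, 6, 5, 4, 5, 6], [7, 6, 5, 6, 7, 6, 5, 6], [8, 6, 5, 6, 8, 6, 5, 6], [10, 6, 5, 6, 10, 6, 5, 6], [2, 9, 5, 9, 2, 5, 9, 2, 9, 5], [3, 9, 5, 9, 3, 5, 9, 3, 9, 5], [6, 9, 5, 9, 6, 9, 6, 5, 6, 9], [7, 9, 5, 9, 7, 9, 5, 9], [2, 10, 5, 10, 2, 10, 5, 10], [3, 10, 5, 10, 3, 5, 10, 3, 10, 5], [6, 10, 5, 10, 6, 10, 5, 10], [9, 10, 5, 10, 9, 10, 9, 5, 9, 10], [2, 10, 6, 10, 2, 10, 6, 10], [3, 10, 6, 10, 3, 6, 10, 3, 10, 6], [4, 10, 6, 10, 4, 6, 10, 4, 10, 6], [9, 10, 6, 10, 9, 10, 6, 10], [11, 10, 6, 10, 11, 10, 6, 10], [12, 10, 6, 10, 12, 10, 6, 10], [2, 11, 6, 11, 2, 11, 6, 11], [3, 11, 6, 11, 3, 6, 11, 3, 11, 6], [4, 11, 6, 11, 4, 6, 11, 4, 11, 6], [5, 11, 6, 11, 5, 11, 6, 5, 6, 11], [10, 11, 6, 11, 10, 11, 6, 11], [2,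 12, 6, 12, 2, 6, 12, 2, 12, 6], [3, 12, 6, 12, 3, 6, 12, 3, 12, 6], [4, 12, 6, 12, 4, 6, 12, 4, 12, 6], [5, 12, 6, 12, 5, 12, 6, 5, 6, 12], [10, 12, 6, 12, 10, 12, 6, 12], [2, 8, 7, 8, 2, 8, 7, 8], [3, 8, 7, 8, 3, 8, 7, 3, 7, 8], [4, 8, 7, 8, 4, 8, 7, 8], [5, 8, 7, 8, 5, 8, 7, 8], [6, 8, 7, 8, 6, 8, 7, 8], [10, 8, 7, 8, 10, 8, 7, 8], [11, 8, 7, 8, 11, 8, 7, 8], [12, 8, 7, 8, 12, 8, 7, 8], [2, 10, 7, 10, 2, 10, 7, 10], [4, 10, 7, 10, 4, 7, 10, 4, 10, 7], [5, 10, 7, 10, 5, 7, 10, 5, 10, 7], [6, 10, 7, 10, 6, 7, 10, 6, 10, 7], [8, 10, 7, 10, 8, 10, 7, 10], [9, 10, 7, 10, 9, 10, 7, 10], [2, 11, 7, 11, 2, 11, 7, 11], [4, 11, 7, 11, 4, 7, 11, 4, 11, 7], [5, 11, 7, 11, 5, 11, 7, 11], [6, 11, 7, 11, 6, 7, 11, 6, 11, 7], [8, 11, 7, 11, 8,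 11, 7, 11], [10, 11, 7, 11, 10, 12, 9, 4, 9, 12], [2, 12, 7, 12, 2, 7, 12, 2, 12, 7], [4, 12, 7, 12, 4, 7, 12, 4, 12, 7], [5, 12, 7, 12, 5, 12, 7, 12], [6, 12, 7, 12, 6, 7, 12, 6, 12, 7], [8, 12, 7, 12, 8, 12, 7, 12], [2, 9, 8, 9, 2, 8, 9, 2, 9, 8], [3, 9, 8, 9, 3, 8, 9, 3, 9, 8], [4, 9, 8, 9, 4, 8, 9, 4, 9, 8], [5, 9, 8, 9, 5, 8, 9, 5, 9, 8], [6, 9, 8, 9, 6, 9, 8, 9], [7, 9, 8, 9, 7, 9, 8, 7, 8, 9], [2, 10, 8, 10, 2, 10, 8, 10], [3, 10, 8, 10, 3, 8, 10, 3, 10, 8], [4, 10, 8, 10, 4, 8, 10, 4, 10, 8], [5, 10, 8, 10, 5, 8, 10, 5, 10, 8], [6, 10, 8, 10, 6, 8, 10, 6, 10, 8], [9, 10, 8, 10, 9, 10, 9, 8, 9, 10], [2, 11, 8, 11, 2, 11, 8, 11], [3, 11, 8, 11, 3, 8, 11, 3, 11, 8], [4, 11, 8, 11, 4, 8, 11, 4, 11, 8], [5, 11, 8, 11, 5, 11,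 8, 11], [6, 11, 8, 11, 6, 8, 11, 6, 11, 8], [2, 12, 8, 12, 2, 8, 12, 2, 12, 8], [3, 12, 8, 12, 3, 8, 12, 3, 12, 8], [4, 12, 8, 12, 4, 8, 12, 4, 12, 8], [5, 12, 8, 12, 5, 12, 8, 12], [6, 12, 8, 12, 6, 8, 12, 6, 12, 8], [9, 12, 8, 12, 9, 8, 11, 4, 11, 8], [2, 11, 9, 11, 2, 11, 9, 2, 9, 11], [5, 11, 9, 11, 5, 11, 9, 5, 9, 11], [6, 11, 9, 11, 6, 9, 11, 6, 11, 9], [7, 11, 9, 11, 7, 9, 11, 7, 11, 9], [5, 12, 9, 12, 5, 12, 9, 5, 9, 12], [6, 12, 9, 12, 6, 9, 12, 6, 12, 9], [7, 12, 9, 12, 7, 9, 12, 7, 12, 9], [8, 12, 9, 12, 8, 9, 11, 4, 11, 9], [2, 11, 10, 11, 2, 11, 10, 11], [5, 11, 10, 11, 5, 11, 10, 5, 10, 11], [9, 11, 10, 11, 9, 10, 11, 9, 11, 10], [2, 12, 10, 12, 2, 10, 12, 2, 12, 10], [5, 12, 10, 12, 5, 12, 10, 5, 10, 12], [9, 12,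 10, 12, 9, 10, 12, 9, 12, 10], [2, 12, 11, 12, 2, 11, 12, 2, 12, 11], [4, 12, 11, 12, 4, 11, 9, 8, 9, 11], [5, 12, 11, 12, 5, 12, 11, 12], [3, 4, 3, 2, 3, 4, 3, 4, 3, 2, 3, 4], [6, 4, 3, 2, 3, 4, 6, 4, 3, 2, 3, 4], [8, 4, 3, 2, 3, 4, 8, 4, 3, 2, 3, 4], [12, 4, 3, 2, 3, 4, 12, 4, 3, 2, 3, 4], [3, 7, 3, 2, 3, 7, 3, 7, 3, 2, 3, 7], [5, 7, 3, 2, 3, 7, 5, 7, 3, 2, 3, 7], [6, 7, 3, 2, 3, 7, 6, 7, 3, 2, 3, 7], [10, 7, 3, 2, 3, 7, 10, 7, 3, 2, 3, 7], [2, 9, 3, 2, 3, 9, 2, 3, 9, 2, 9, 3], [3, 9, 3, 2, 3, 9, 3, 2, 9, 3, 9, 2], [6, 9, 3, 2, 3, 9, 6, 9, 3, 2, 3, 9], [12, 9, 3, 2, 3, 9, 12, 9, 3, 2, 3, 9], [3, 10, 3, 2, 3, 10, 3, 10, 3, 2, 3, 10], [6, 10, 3, 2, 3, 10, 6, 8, 12, 11, 12, 8], [7, 10, 3, 2, 3, 10, 7, 10, 3, 2, 3, 10], [8, 10, 3,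 2, 3, 10, 8, 6, 12, 11, 12, 6], [11, 10, 3, 2, 3, 10, 11, 10, 3, 2, 3, 10], [12, 10, 3, 2, 3, 10, 12, 10, 3, 2, 3, 10], [5, 11, 3, 2, 3, 11, 5, 11, 3, 2, 3, 11], [2, 12, 3, 2, 3, 12, 2, 3, 12, 2, 12, 3], [3, 12, 3, 2, 3, 12, 3, 2, 12, 3, 12, 2], [4, 12, 3, 2, 3, 12, 4, 12, 3, 2, 3, 12], [5, 12, 3, 2, 3, 12, 5, 12, 3, 2, 3, 12], [9, 12, 3, 2, 3, 12, 9, 12, 3, 2, 3, 12], [10, 12, 3, 2, 3, 12, 10, 12, 3, 2, 3, 12], [5, 3, 9, 2, 9, 3, 5, 4, 12, 9, 12, 4], [6, 3, 9, 2, 9, 3, 6, 3, 9, 2, 9, 3], [3, 4, 9, 2, 9, 4, 3, 12, 6, 5, 6, 12], [5, 4, 9, 2, 9, 4, 5, 6, 12, 3, 12, 6], [6, 4, 9, 2, 9, 4, 6, 4, 9, 2, 9, 4], [7, 4, 9, 2, 9, 4, 7, 4, 9, 2, 9, 4], [12, 4, 9, 2, 9, 4, 12, 4, 9, 2, 9, 4], [3, 5, 9, 2, 9, 5, 3, 4, 12, 9, 12, 4], [7, 5, 9,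 2, 9, 5, 7, 5, 9, 2, 9, 5], [6, 8, 9, 2, 9, 8, 6, 8, 9, 2, 9, 8], [9, 8, 9, 2, 9, 8, 9, 8, 9, 2, 9, 8], [12, 8, 9, 2, 9, 8, 12, 8, 9, 2, 9, 8], [12, 11, 9, 2, 9, 11, 12, 11, 9, 2, 9, 11], [2, 12, 9, 2, 9, 12, 2, 9, 12, 2, 12, 9], [4, 12, 9, 2, 9, 12, 4, 12, 9, 2, 9, 12], [8, 12, 9, 2, 9, 12, 8, 12, 9, 2, 9, 12], [9, 12, 9, 2, 9, 12, 9, 2, 12, 9, 12, 2], [11, 12, 9, 2, 9, 12, 11, 12, 9, 2, 9, 12], [4, 3, 12, 2, 12, 3, 4, 3, 12, 2, 12, 3], [10, 3, 12, 2, 12, 3, 10, 3, 12, 2, 12, 3], [3, 4, 12, 2, 12, 4, 3, 4, 12, 2, 12, 4], [9, 4, 12, 2, 12, 4, 9, 4, 12, 2, 12, 4], [10, 6, 12, 2, 12, 6, 10, 6, 12, 2, 12, 6], [12, 6, 12, 2, 12, 6, 12, 6, 12, 2, 12, 6], [5, 7, 12, 2, 12, 7, 5, 7, 12, 2, 12, 7], [8, 7, 12, 2, 12, 7, 8, 7, 12, 2, 12,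 7], [11, 7, 12, 2, 12, 7, 11, 9, 4, 3, 4, 9], [5, 8, 12, 2, 12, 8, 5, 8, 12, 2, 12, 8], [7, 8, 12, 2, 12, 8, 7, 8, 12, 2, 12, 8], [9, 8, 12, 2, 12, 8, 9, 8, 12, 2, 12, 8], [4, 9, 12, 2, 12, 9, 4, 9, 12, 2, 12, 9], [8, 9, 12, 2, 12, 9, 8, 9, 12, 2, 12, 9], [11, 9, 12, 2, 12, 9, 11, 9, 12, 2, 12, 9], [3, 10, 12, 2, 12, 10, 3, 10, 12, 2, 12, 10], [6, 10, 12, 2, 12, 10, 6, 10, 12, 2, 12, 10], [12, 10, 12, 2, 12, 10, 12, 10, 12, 2, 12, 10], [3, 11, 12, 2, 12, 11, 3, 8, 10, 6, 10, 8], [5, 11, 12, 2, 12, 11, 5, 11, 12, 2, 12, 11], [6, 11, 12, 2, 12, 11, 6, 8, 10, 3, 10, 8], [8, 11, 12, 2, 12, 11, 8, 6, 10, 3, 10, 6], [9, 11, 12, 2, 12, 11, 9, 11, 12, 2, 12, 11], [12, 11, 12, 2, 12, 11, 12, 11, 12, 2, 12, 11], [4, 5, 4, 3, 4, 5, 4, 5, 4,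 3, 4, 5], [8, 5, 4, 3, 4, 5, 8, 5, 4, 3, 4, 5], [9, 5, 4, 3, 4, 5, 9, 5, 4, 3, 4, 5], [3, 7, 4, 3, 4, 7, 3, 7, 4, 3, 4, 7], [6, 7, 4, 3, 4, 7, 6, 7, 4, 3, 4, 7], [11, 7, 4, 3, 4, 7, 11, 7, 4, 3, 4, 7], [2, 9, 4, 3, 4, 9, 2, 11, 12, 7, 12, 11], [3, 9, 4, 3, 4, 9, 3, 4, 9, 3, 9, 4], [4, 9, 4, 3, 4, 9, 4, 3, 9, 4, 9, 3], [5, 9, 4, 3, 4, 9, 5, 9, 4, 3, 4, 9], [6, 9, 4, 3, 4, 9, 6, 9, 4, 3, 4, 9], [3, 10, 4, 3, 4, 10, 3, 4, 10, 3, 10, 4], [4, 10, 4, 3, 4, 10, 4, 3, 10, 4, 10, 3], [11, 10, 4, 3, 4, 10, 11, 10, 4, 3, 4, 10], [12, 10, 4, 3, 4, 10, 12, 10, 4, 3, 4, 10], [3, 11, 4, 3, 4, 11, 3, 4, 11, 3, 11, 4], [4, 11, 4, 3, 4, 11, 4, 3, 11, 4, 11, 3], [7, 11, 4, 3, 4, 11, 7, 11, 4, 3, 4, 11], [10, 11, 4, 3, 4, 11, 10, 11, 4, 3, 4, 11],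 [3, 12, 4, 3, 4, 12, 3, 4, 12, 3, 12, 4], [4, 12, 4, 3, 4, 12, 4, 3, 12, 4, 12, 3], [6, 12, 4, 3, 4, 12, 6, 11, 10, 8, 10, 11], [10, 12, 4, 3, 4, 12, 10, 12, 4, 3, 4, 12], [5, 8, 7, 3, 7, 8, 5, 8, 7, 3, 7, 8], [6, 8, 7, 3, 7, 8, 6, 8, 7, 3, 7, 8], [7, 8, 7, 3, 7, 8, 7, 8, 7, 3, 7, 8], [9, 8, 7, 3, 7, 8, 9, 8, 7, 3, 7, 8], [3, 9, 7, 3, 7, 9, 3, 9, 7, 3, 7, 9], [6, 9, 7, 3, 7, 9, 6, 9, 7, 3, 7, 9], [8, 9, 7, 3, 7, 9, 8, 9, 7, 3, 7, 9], [10, 9, 7, 3, 7, 9, 10, 9, 7, 3, 7, 9], [3, 11, 7, 3, 7, 11, 3, 7, 11, 3, 11, 7], [4, 11, 7, 3, 7, 11, 4, 11, 7, 3, 7, 11], [5, 11, 7, 3, 7, 11, 5, 11, 7, 3, 7, 11], [7, 11, 7, 3, 7, 11, 7, 3, 11, 7, 11, 3], [6, 2, 9, 3, 9, 2, 6, 2, 9, 3, 9, 2], [11, 2, 9, 3, 9, 2, 11, 2, 9, 3, 9, 2], [5, 4, 9, 3, 9,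 4, 5, 4, 9, 3, 9, 4], [6, 4, 9, 3, 9, 4, 6, 4, 9, 3, 9, 4], [9, 4, 9, 3, 9, 4, 9, 3, 9, 4, 9, 3], [10, 4, 9, 3, 9, 4, 10, 4, 9, 3, 9, 4], [4, 5, 9, 3, 9, 5, 4, 5, 9, 3, 9, 5], [9, 5, 9, 3, 9, 5, 9, 5, 9, 3, 9, 5], [10, 5, 9, 3, 9, 5, 10, 5, 9, 3, 9, 5], [11, 5, 9, 3, 9, 5, 11, 5, 9, 3, 9, 5], [6, 8, 9, 3, 9, 8, 6, 8, 9, 3, 9, 8], [7, 8, 9, 3, 9, 8, 7, 8, 9, 3, 9, 8], [10, 8, 9, 3, 9, 8, 10, 8, 9, 3, 9, 8], [3, 10, 9, 3, 9, 10, 3, 10, 9, 3, 9, 10], [4, 10, 9, 3, 9, 10, 4, 10, 9, 3, 9, 10], [5, 10, 9, 3, 9, 10, 5, 10, 9, 3, 9, 10], [7, 10, 9, 3, 9, 10, 7, 10, 9, 3, 9, 10], [8, 10, 9, 3, 9, 10, 8, 10, 9, 3, 9, 10], [12, 10, 9, 3, 9, 10, 12, 10, 9, 3, 9, 10], [3, 12, 9, 3, 9, 12, 3, 9, 12, 3, 12, 9], [9, 12, 9, 3, 9, 12, 9, 3, 12, 9,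 12, 3], [10, 12, 9, 3, 9, 12, 10, 12, 9, 3, 9, 12], [7, 4, 10, 3, 10, 4, 7, 4, 10, 3, 10, 4], [9, 4, 10, 3, 10, 4, 9, 4, 10, 3, 10, 4], [6, 5, 10, 3, 10, 5, 6, 5, 10, 3, 10, 5], [7, 5, 10, 3, 10, 5, 7, 5, 10, 3, 10, 5], [9, 5, 10, 3, 10, 5, 9, 5, 10, 3, 10, 5], [11, 5, 10, 3, 10, 5, 11, 5, 10, 3, 10, 5], [2, 6, 10, 3, 10, 6, 2, 8, 12, 11, 12, 8], [5, 6, 10, 3, 10, 6, 5, 6, 10, 3, 10, 6], [7, 6, 10, 3, 10, 6, 7, 6, 10, 3, 10, 6], [10, 6, 10, 3, 10, 6, 10, 6, 10, 3, 10, 6], [2, 8, 10, 3, 10, 8, 2, 6, 12, 11, 12, 6], [9, 8, 10, 3, 10, 8, 9, 8, 10, 3, 10, 8], [10, 8, 10, 3, 10, 8, 10, 8, 10, 3, 10, 8], [3, 12, 10, 3, 10, 12, 3, 10, 12, 3, 12, 10], [9, 12, 10, 3, 10, 12, 9, 12, 10, 3, 10, 12], [10, 12, 10, 3, 10, 12, 10, 3, 12, 10, 12,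 3], [11, 4, 11, 3, 11, 4, 11, 3, 11, 4, 11, 3], [9, 6, 11, 3, 11, 6, 9, 6, 11, 3, 11, 6], [11, 6, 11, 3, 11, 6, 11, 6, 11, 3, 11, 6], [5, 7, 11, 3, 11, 7, 5, 7, 11, 3, 11, 7], [9, 7, 11, 3, 11, 7, 9, 7, 11, 3, 11, 7], [11, 7, 11, 3, 11, 7, 11, 3, 11, 7, 11, 3], [5, 8, 11, 3, 11, 8, 5, 8, 11, 3, 11, 8], [11, 8, 11, 3, 11, 8, 11, 8, 11, 3, 11, 8], [5, 2, 12, 3, 12, 2, 5, 2, 12, 3, 12, 2], [6, 2, 12, 3, 12, 2, 6, 5, 9, 4, 9, 5], [7, 2, 12, 3, 12, 2, 7, 2, 12, 3, 12, 2], [11, 2, 12, 3, 12, 2, 11, 2, 12, 3, 12, 2], [7, 4, 12, 3, 12, 4, 7, 4, 12, 3, 12, 4], [9, 4, 12, 3, 12, 4, 9, 4, 12, 3, 12, 4], [12, 4, 12, 3, 12, 4, 12, 3, 12, 4, 12, 3], [2, 6, 12, 3, 12, 6, 2, 5, 9, 4, 9, 5], [7, 6, 12, 3, 12, 6, 7, 6, 12, 3, 12, 6], [12, 6, 12,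 3, 12, 6, 12, 6, 12, 3, 12, 6], [5, 8, 12, 3, 12, 8, 5, 8, 12, 3, 12, 8], [4, 9, 12, 3, 12, 9, 4, 9, 12, 3, 12, 9], [7, 9, 12, 3, 12, 9, 7, 9, 12, 3, 12, 9], [12, 9, 12, 3, 12, 9, 12, 3, 12, 9, 12, 3], [5, 10, 12, 3, 12, 10, 5, 9, 11, 4, 11, 9], [8, 10, 12, 3, 12, 10, 8, 12, 9, 5, 9, 12], [2, 6, 5, 4, 5, 6, 2, 6, 5, 4, 5, 6], [5, 6, 5, 4, 5, 6, 5, 6, 5, 4, 5, 6], [8, 6, 5, 4, 5, 6, 8, 6, 5, 4, 5, 6], [11, 6, 5, 4, 5, 6, 11, 6, 5, 4, 5, 6], [4, 9, 5, 4, 5, 9, 4, 5, 9, 4, 9, 5], [5, 9, 5, 4, 5, 9, 5, 4, 9, 5, 9, 4], [7, 9, 5, 4, 5, 9, 7, 9, 5, 4, 5, 9], [2, 11, 5, 4, 5, 11, 2, 11, 5, 4, 5, 11], [3, 11, 5, 4, 5, 11, 3, 8, 12, 10, 12, 8], [4, 11, 5, 4, 5, 11, 4, 11, 5, 4, 5, 11], [6, 11, 5, 4, 5, 11, 6, 11, 5, 4, 5, 11], [8, 11, 5,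 4, 5, 11, 8, 3, 12, 10, 12, 3], [12, 11, 5, 4, 5, 11, 12, 8, 9, 5, 9, 8], [4, 12, 5, 4, 5, 12, 4, 12, 5, 4, 5, 12], [6, 3, 9, 4, 9, 3, 6, 3, 9, 4, 9, 3], [10, 3, 9, 4, 9, 3, 10, 3, 9, 4, 9, 3], [12, 3, 9, 4, 9, 3, 12, 3, 9, 4, 9, 3], [7, 5, 9, 4, 9, 5, 7, 5, 9, 4, 9, 5], [9, 5, 9, 4, 9, 5, 9, 4, 9, 5, 9, 4], [6, 8, 9, 4, 9, 8, 6, 8, 9, 4, 9, 8], [12, 8, 9, 4, 9, 8, 12, 11, 9, 8, 9, 11], [3, 10, 9, 4, 9, 10, 3, 10, 9, 4, 9, 10], [4, 10, 9, 4, 9, 10, 4, 10, 9, 4, 9, 10], [4, 11, 9, 4, 9, 11, 4, 9, 11, 4, 11, 9], [8, 11, 9, 4, 9, 11, 8, 4, 12, 9, 12, 4], [4, 12, 9, 4, 9, 12, 4, 9, 12, 4, 12, 9], [7, 12, 9, 4, 9, 12, 7, 11, 10, 7, 10, 11], [9, 12, 9, 4, 9, 12, 9, 4, 12, 9, 12, 4], [11, 12, 9, 4, 9, 12, 11, 7, 11, 10, 11, 7], [5, 3,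 10, 4, 10, 3, 5, 3, 10, 4, 10, 3], [9, 3, 10, 4, 10, 3, 9, 3, 10, 4, 10, 3], [2, 6, 10, 4, 10, 6, 2, 6, 10, 4, 10, 6], [10, 6, 10, 4, 10, 6, 10, 6, 10, 4, 10, 6], [2, 7, 10, 4, 10, 7, 2, 7, 10, 4, 10, 7], [5, 7, 10, 4, 10, 7, 5, 7, 10, 4, 10, 7], [8, 7, 10, 4, 10, 7, 8, 7, 10, 4, 10, 7], [12, 7, 10, 4, 10, 7, 12, 7, 10, 4, 10, 7], [2, 8, 10, 4, 10, 8, 2, 8, 10, 4, 10, 8], [5, 8, 10, 4, 10, 8, 5, 8, 10, 4, 10, 8], [7, 8, 10, 4, 10, 8, 7, 8, 10, 4, 10, 8], [12, 8, 10, 4, 10, 8, 12, 8, 10, 4, 10, 8], [4, 12, 10, 4, 10, 12, 4, 10, 12, 4, 12, 10], [5, 12, 10, 4, 10, 12, 5, 12, 10, 4, 10, 12], [7, 12, 10, 4, 10, 12, 7, 12, 10, 4, 10, 12], [8, 12, 10, 4, 10, 12, 8, 12, 10, 4, 10, 12], [10, 12, 10, 4, 10, 12, 10, 4, 12, 10, 12, 4], [5,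 3, 11, 4, 11, 3, 5, 8, 12, 10, 12, 8], [7, 3, 11, 4, 11, 3, 7, 3, 11, 4, 11, 3], [8, 3, 11, 4, 11, 3, 8, 12, 10, 5, 10, 12], [2, 6, 11, 4, 11, 6, 2, 6, 11, 4, 11, 6], [5, 6, 11, 4, 11, 6, 5, 6, 11, 4, 11, 6], [12, 6, 11, 4, 11, 6, 12, 6, 11, 4, 11, 6], [2, 7, 11, 4, 11, 7, 2, 7, 11, 4, 11, 7], [8, 7, 11, 4, 11, 7, 8, 7, 11, 4, 11, 7], [2, 8, 11, 4, 11, 8, 2, 8, 11, 4, 11, 8], [3, 8, 11, 4, 11, 8, 3, 12, 10, 5, 10, 12], [5, 8, 11, 4, 11, 8, 5, 3, 12, 10, 12, 3], [7, 8, 11, 4, 11, 8, 7, 8, 11, 4, 11, 8], [11, 8, 11, 4, 11, 8, 11, 8, 11, 4, 11, 8], [12, 8, 11, 4, 11, 8, 12, 9, 11, 4, 11, 9], [10, 9, 11, 4, 11, 9, 10, 9, 11, 4, 11, 9], [11, 6, 12, 4, 12, 6, 11, 6, 12, 4, 12, 6], [12, 6, 12, 4, 12, 6, 12, 6, 12, 4, 12, 6], [8, 7, 12,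 4, 12, 7, 8, 7, 12, 4, 12, 7], [10, 7, 12, 4, 12, 7, 10, 7, 12, 4, 12, 7], [12, 7, 12, 4, 12, 7, 12, 7, 12, 4, 12, 7], [7, 8, 12, 4, 12, 8, 7, 8, 12, 4, 12, 8], [9, 8, 12, 4, 12, 8, 9, 8, 12, 11, 12, 8], [10, 8, 12, 4, 12, 8, 10, 8, 12, 4, 12, 8], [11, 8, 12, 4, 12, 8, 11, 4, 12, 9, 12, 4], [12, 8, 12, 4, 12, 8, 12, 8, 12, 4, 12, 8], [8, 9, 12, 4, 12, 9, 8, 9, 12, 11, 12, 9], [11, 9, 12, 4, 12, 9, 11, 9, 12, 4, 12, 9], [12, 9, 12, 4, 12, 9, 12, 4, 12, 9, 12, 4], [5, 10, 12, 4, 12, 10, 5, 11, 12, 6, 12, 11], [7, 10, 12, 4, 12, 10, 7, 10, 12, 4, 12, 10], [8, 10, 12, 4, 12, 10, 8, 10, 12, 4, 12, 10], [11, 10, 12, 4, 12, 10, 11, 12, 6, 5, 6, 12], [12, 10, 12, 4, 12, 10, 12, 4, 12, 10, 12, 4], [5, 9, 6, 5, 6, 9, 5, 9, 6, 5, 6, 9], [7,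 9, 6, 5, 6, 9, 7, 9, 6, 5, 6, 9], [10, 9, 6, 5, 6, 9, 10, 9, 6, 5, 6, 9], [11, 9, 6, 5, 6, 9, 11, 9, 6, 5, 6, 9], [2, 11, 6, 5, 6, 11, 2, 11, 6, 5, 6, 11], [6, 11, 6, 5, 6, 11, 6, 11, 6, 5, 6, 11], [9, 11, 6, 5, 6, 11, 9, 11, 6, 5, 6, 11], [6, 12, 6, 5, 6, 12, 6, 12, 6, 5, 6, 12], [7, 12, 6, 5, 6, 12, 7, 10, 12, 9, 12, 10], [9, 12, 6, 5, 6, 12, 9, 7, 12, 10, 12, 7], [7, 4, 9, 5, 9, 4, 7, 4, 9, 5, 9, 4], [9, 8, 9, 5, 9, 8, 9, 8, 9, 5, 9, 8], [10, 8, 9, 5, 9, 8, 10, 8, 9, 5, 9, 8], [3, 10, 9, 5, 9, 10, 3, 10, 9, 5, 9, 10], [5, 10, 9, 5, 9, 10, 5, 10, 9, 5, 9, 10], [6, 10, 9, 5, 9, 10, 6, 10, 9, 5, 9, 10], [8, 10, 9, 5, 9, 10, 8, 10, 9, 5, 9, 10], [11, 10, 9, 5, 9, 10, 11, 10, 9, 5, 9, 10], [3, 11, 9, 5, 9, 11, 3, 11, 9, 5, 9, 11],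 [6, 11, 9, 5, 9, 11, 6, 11, 9, 5, 9, 11], [10, 11, 9, 5, 9, 11, 10, 11, 9, 5, 9, 11], [9, 12, 9, 5, 9, 12, 9, 12, 9, 5, 9, 12], [3, 7, 10, 5, 10, 7, 3, 7, 10, 5, 10, 7], [4, 7, 10, 5, 10, 7, 4, 7, 10, 5, 10, 7], [6, 7, 10, 5, 10, 7, 6, 7, 10, 5, 10, 7], [8, 7, 10, 5, 10, 7, 8, 7, 10, 5, 10, 7], [10, 7, 10, 5, 10, 7, 10, 7, 10, 5, 10, 7], [2, 8, 10, 5, 10, 8, 2, 8, 10, 5, 10, 8], [4, 8, 10, 5, 10, 8, 4, 8, 10, 5, 10, 8], [6, 8, 10, 5, 10, 8, 6, 8, 10, 5, 10, 8], [9, 8, 10, 5, 10, 8, 9, 8, 10, 5, 10, 8], [2, 11, 10, 5, 10, 11, 2, 11, 10, 5, 10, 11], [3, 11, 10, 5, 10, 11, 3, 11, 10, 5, 10, 11], [10, 11, 10, 5, 10, 11, 10, 11, 10, 5, 10, 11], [2, 7, 10, 6, 10, 7, 2, 7, 10, 6, 10, 7], [3, 7, 10, 6, 10, 7, 3, 7, 10, 6, 10, 7], [8, 7,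 10, 6, 10, 7, 8, 7, 10, 6, 10, 7], [9, 7, 10, 6, 10, 7, 9, 7, 10, 6, 10, 7], [5, 8, 10, 6, 10, 8, 5, 8, 10, 6, 10, 8], [2, 7, 11, 6, 11, 7, 2, 7, 11, 6, 11, 7], [8, 7, 11, 6, 11, 7, 8, 7, 11, 6, 11, 7], [12, 7, 11, 6, 11, 7, 12, 7, 11, 6, 11, 7], [2, 8, 11, 6, 11, 8, 2, 8, 11, 6, 11, 8], [12, 8, 11, 6, 11, 8, 12, 8, 11, 6, 11, 8], [3, 9, 11, 6, 11, 9, 3, 9, 11, 6, 11, 9], [10, 9, 11, 6, 11, 9, 10, 9, 11, 6, 11, 9], [12, 9, 11, 6, 11, 9, 12, 9, 11, 6, 11, 9], [4, 12, 11, 6, 11, 12, 4, 12, 11, 6, 11, 12], [6, 12, 11, 6, 11, 12, 6, 11, 12, 6, 12, 11], [7, 12, 11, 6, 11, 12, 7, 12, 11, 6, 11, 12], [8, 12, 11, 6, 11, 12, 8, 12, 11, 6, 11, 12], [9, 12, 11, 6, 11, 12, 9, 12, 11, 6, 11, 12], [11, 12, 11, 6, 11, 12, 11, 6, 12, 11, 12, 6],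 [3, 7, 12, 6, 12, 7, 3, 7, 12, 6, 12, 7], [5, 7, 12, 6, 12, 7, 5, 10, 12, 9, 12, 10], [8, 7, 12, 6, 12, 7, 8, 7, 12, 6, 12, 7], [11, 7, 12, 6, 12, 7, 11, 7, 12, 6, 12, 7], [12, 7, 12, 6, 12, 7, 12, 7, 12, 6, 12, 7], [11, 8, 12, 6, 12, 8, 11, 8, 12, 6, 12, 8], [12, 8, 12, 6, 12, 8, 12, 8, 12, 6, 12, 8], [11, 9, 12, 6, 12, 9, 11, 9, 12, 6, 12, 9], [12, 9, 12, 6, 12, 9, 12, 9, 12, 6, 12, 9], [4, 11, 12, 6, 12, 11, 4, 11, 12, 6, 12, 11], [7, 11, 12, 6, 12, 11, 7, 11, 12, 6, 12, 11], [8, 11, 12, 6, 12, 11, 8, 11, 12, 6, 12, 11], [9, 11, 12, 6, 12, 11, 9, 11, 12, 6, 12, 11], [6, 9, 8, 7, 8, 9, 6, 9, 8, 7, 8, 9], [8, 9, 8, 7, 8, 9, 8, 9, 8, 7, 8, 9], [10, 9, 8, 7, 8, 9, 10, 9, 8, 7, 8, 9], [2, 11, 10, 7, 10, 11, 2, 11, 10, 7, 10, 11],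 [10, 11, 10, 7, 10, 11, 10, 7, 11, 10, 11, 7], [12, 11, 10, 7, 10, 11, 12, 11, 10, 7, 10, 11], [7, 12, 10, 7, 10, 12, 7, 10, 12, 7, 12, 10], [10, 12, 10, 7, 10, 12, 10, 7, 12, 10, 12, 7], [11, 12, 10, 7, 10, 12, 11, 12, 10, 7, 10, 12], [4, 3, 11, 7, 11, 3, 4, 3, 11, 7, 11, 3], [5, 3, 11, 7, 11, 3, 5, 3, 11, 7, 11, 3], [8, 3, 11, 7, 11, 3, 8, 3, 11, 7, 11, 3], [10, 3, 11, 7, 11, 3, 10, 3, 11, 7, 11, 3], [12, 3, 11, 7, 11, 3, 12, 3, 11, 7, 11, 3], [10, 9, 11, 7, 11, 9, 10, 4, 12, 9, 12, 4], [3, 12, 11, 7, 11, 12, 3, 12, 11, 7, 11, 12], [5, 12, 11, 7, 11, 12, 5, 12, 11, 7, 11, 12], [7, 12, 11, 7, 11, 12, 7, 11, 12, 7, 12, 11], [11, 12, 11, 7, 11, 12, 11, 7, 12, 11, 12, 7], [12, 9, 12, 7, 12, 9, 12, 9, 12, 7, 12, 9], [5, 11, 12, 7,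 12, 11, 5, 11, 12, 7, 12, 11], [8, 11, 12, 7, 12, 11, 8, 10, 11, 9, 11, 10], [3, 10, 9, 8, 9, 10, 3, 10, 9, 8, 9, 10], [5, 10, 9, 8, 9, 10, 5, 10, 9, 8, 9, 10], [7, 10, 9, 8, 9, 10, 7, 10, 9, 8, 9, 10], [8, 10, 9, 8, 9, 10, 8, 10, 9, 8, 9, 10], [12, 10, 9, 8, 9, 10, 12, 10, 9, 8, 9, 10], [8, 11, 9, 8, 9, 11, 8, 9, 11, 8, 11, 9], [9, 11, 9, 8, 9, 11, 9, 8, 11, 9, 11, 8], [2, 11, 10, 8, 10, 11, 2, 11, 10, 8, 10, 11], [8, 11, 10, 8, 10, 11, 8, 10, 11, 8, 11, 10], [10, 11, 10, 8, 10, 11, 10, 8, 11, 10, 11, 8], [12, 11, 10, 8, 10, 11, 12, 11, 10, 8, 10, 11], [8, 12, 10, 8, 10, 12, 8, 10, 12, 8, 12, 10], [9, 12, 10, 8, 10, 12, 9, 12, 10, 8, 10, 12], [10, 12, 10, 8, 10, 12, 10, 8, 12, 10, 12, 8], [11, 12, 10, 8, 10, 12, 11, 12, 10, 8,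 10, 12], [4, 9, 11, 8, 11, 9, 4, 8, 12, 11, 12, 8], [7, 9, 11, 8, 11, 9, 7, 9, 11, 8, 11, 9], [11, 9, 11, 8, 11, 9, 11, 8, 11, 9, 11, 8], [2, 10, 11, 8, 11, 10, 2, 10, 11, 8, 11, 10], [11, 10, 11, 8, 11, 10, 11, 8, 11, 10, 11, 8], [5, 12, 11, 8, 11, 12, 5, 12, 11, 8, 11, 12], [7, 12, 11, 8, 11, 12, 7, 10, 11, 9, 11, 10], [8, 12, 11, 8, 11, 12, 8, 11, 12, 8, 12, 11], [9, 12, 11, 8, 11, 12, 9, 7, 11, 10, 11, 7], [11, 12, 11, 8, 11, 12, 11, 8, 12, 11, 12, 8], [12, 10, 12, 8, 12, 10, 12, 8, 12, 10, 12, 8], [4, 11, 12, 8, 12, 11, 4, 11, 12, 9, 12, 11], [5, 11, 12, 8, 12, 11, 5, 11, 12, 8, 12, 11], [9, 11, 12, 8, 12, 11, 9, 11, 12, 8, 12, 11], [12, 11, 12, 8, 12, 11, 12, 8, 12, 11, 12, 8], [12, 4, 11, 9, 11, 4, 12, 4, 11, 9, 11, 4], [3,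 8, 11, 9, 11, 8, 3, 8, 11, 9, 11, 8], [12, 8, 11, 9, 11, 8, 12, 8, 11, 9, 11, 8], [6, 10, 11, 9, 11, 10, 6, 10, 11, 9, 11, 10], [12, 10, 11, 9, 11, 10, 12, 10, 11, 9, 11, 10], [9, 12, 11, 9, 11, 12, 9, 11, 12, 9, 12, 11], [10, 12, 11, 9, 11, 12, 10, 12, 11, 9, 11, 12], [11, 12, 11, 9, 11, 12, 11, 9, 12, 11, 12, 9], [3, 2, 12, 9, 12, 2, 3, 2, 12, 9, 12, 2], [10, 3, 12, 9, 12, 3, 10, 3, 12, 9, 12, 3], [11, 3, 12, 9, 12, 3, 11, 3, 12, 9, 12, 3], [6, 10, 12, 9, 12, 10, 6, 10, 12, 9, 12, 10], [11, 10, 12, 9, 12, 10, 11, 10, 12, 9, 12, 10], [12, 10, 12, 9, 12, 10, 12, 10, 12, 9, 12, 10], [3, 11, 12, 9, 12, 11, 3, 11, 12, 9, 12, 11], [10, 11, 12, 9, 12, 11, 10, 11, 12, 9, 12, 11], [2, 7, 11, 10, 11, 7, 2, 7, 11, 10, 11, 7], [4, 7, 11,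 10, 11, 7, 4, 7, 11, 10, 11, 7], [6, 7, 11, 10, 11, 7, 6, 7, 11, 10, 11, 7], [8, 7, 11, 10, 11, 7, 8, 7, 11, 10, 11, 7], [3, 8, 11, 10, 11, 8, 3, 8, 11, 10, 11, 8], [4, 8, 11, 10, 11, 8, 4, 8, 11, 10, 11, 8], [6, 8, 11, 10, 11, 8, 6, 8, 11, 10, 11, 8], [7, 8, 11, 10, 11, 8, 7, 8, 11, 10, 11, 8], [10, 12, 11, 10, 11, 12, 10, 11, 12, 10, 12, 11], [4, 3, 12, 10, 12, 3, 4, 3, 12, 10, 12, 3], [6, 3, 12, 10, 12, 3, 6, 3, 12, 10, 12, 3], [7, 3, 12, 10, 12, 3, 7, 3, 12, 10, 12, 3], [9, 3, 12, 10, 12, 3, 9, 3, 12, 10, 12, 3], [11, 3, 12, 10, 12, 3, 11, 3, 12, 10, 12, 3], [5, 4, 12, 10, 12, 4, 5, 6, 12, 11, 12, 6], [6, 4, 12, 10, 12, 4, 6, 4, 12, 10, 12, 4], [3, 7, 12, 10, 12, 7, 3, 7, 12, 10, 12, 7], [6, 7, 12, 10, 12, 7, 6, 7, 12, 10, 12,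 7], [8, 7, 12, 10, 12, 7, 8, 7, 12, 10, 12, 7], [6, 8, 12, 10, 12, 8, 6, 8, 12, 10, 12, 8], [7, 8, 12, 10, 12, 8, 7, 8, 12, 10, 12, 8], [9, 8, 12, 10, 12, 8, 9, 8, 12, 10, 12, 8], [3, 11, 12, 10, 12, 11, 3, 11, 12, 10, 12, 11], [12, 11, 12, 10, 12, 11, 12, 10, 12, 11, 12, 10], [10, 6, 12, 11, 12, 6, 10, 6, 12, 11, 12, 6], [5, 7, 12, 11, 12, 7, 5, 7, 12, 11, 12, 7], [8, 7, 12, 11, 12, 7, 8, 7, 12, 11, 12, 7], [10, 7, 12, 11, 12, 7, 10, 7, 12, 11, 12, 7], [3, 8, 12, 11, 12, 8, 3, 8, 12, 11, 12, 8], [5, 8, 12, 11, 12, 8, 5, 8, 12, 11, 12, 8], [7, 8, 12, 11, 12, 8, 7, 8, 12, 11, 12, 8], [10, 8, 12, 11, 12, 8, 10, 8, 12, 11, 12, 8], [6, 10, 12, 11, 12, 10, 6, 10, 12, 11, 12, 10], [0, 1, 0, 1, 0, 1], [0, 2, 0, 2], [0, 3, 0, 3], [0, 4,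 0, 4], [0, 5, 0, 5], [0, 6, 0, 6], [0, 7, 0, 7], [0, 8, 0, 8], [0, 9, 0, 9], [0, 10, 0, 10], [0, 11, 0, 11], [0, 12, 0, 12], [1, 2, 1, 2, 1, 2], [1, 3, 1, 3], [1, 4, 1, 4], [1, 5, 1, 5], [1, 6, 1, 6], [1, 7, 1, 7], [1, 8, 1, 8], [1, 9, 1, 9], [1, 10, 1, 10, 1, 10], [1, 11, 1, 11, 1, 11], [1, 12, 1, 12, 1, 12], [1, 3, 2, 3, 1, 3, 2, 3, 1, 3, 2, 3], [1, 9, 2, 9, 1, 9, 2, 9, 1, 9, 2, 9], [1, 12, 2, 12, 1, 12, 2, 12, 1, 12, 2, 12], [1, 4, 3, 4, 1, 4, 3, 4], [1, 7, 3, 7, 1, 7, 3, 7], [1, 9, 3, 9, 1, 9, 3, 9], [1, 10, 3, 10, 1, 10, 3, 10, 1, 10, 3, 10], [1, 11, 3, 11, 1, 11, 3, 11, 1, 11, 3, 11], [1, 12, 3, 12, 1, 12, 3, 12, 1, 12, 3, 12], [1, 5, 4, 5, 1, 5, 4, 5], [1, 9, 4, 9, 1, 9, 4, 9], [1, 10, 4, 10, 1, 10, 4, 10, 1, 10, 4, 10],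 [1, 11, 4, 11, 1, 11, 4, 11, 1, 11, 4, 11], [1, 12, 4, 12, 1, 12, 4, 12, 1, 12, 4, 12], [1, 6, 5, 6, 1, 6, 5, 6], [1, 9, 5, 9, 1, 9, 5, 9], [1, 10, 5, 10, 1, 10, 5, 10, 1, 10, 5, 10], [1, 10, 6, 10, 1, 10, 6, 10, 1, 10, 6, 10], [1, 11, 6, 11, 1, 11, 6, 11, 1, 11, 6, 11], [1, 12, 6, 12, 1, 12, 6, 12, 1, 12, 6, 12], [1, 8, 7, 8, 1, 8, 7, 8], [1, 10, 7, 10, 1, 10, 7, 10, 1, 10, 7, 10], [1, 11, 7, 11, 1, 11, 7, 11, 1, 11, 7, 11], [1, 12, 7, 12, 1, 12, 7, 12, 1, 12, 7, 12], [1, 9, 8, 9, 1, 9, 8, 9], [1, 10, 8, 10, 1, 10, 8, 10, 1, 10, 8, 10], [1, 11, 8, 11, 1, 11, 8, 11, 1, 11, 8, 11], [1, 12, 8, 12, 1, 12, 8, 12, 1, 12, 8, 12], [1, 11, 9, 11, 1, 11, 9, 11, 1, 11, 9, 11], [1, 12, 9, 12, 1, 12, 9, 12, 1, 12, 9, 12], [10, 9, 12, 3, 12,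 9, 5, 6, 12, 2, 12, 6, 5, 10, 8, 10, 12, 2, 12, 10, 8, 1, 8, 10, 12, 2, 12, 10, 8, 10, 5, 6, 12, 2, 12, 6, 5, 9, 12, 3, 12, 9, 10, 0, 1, 0]]
  subs := [[0], [2], [3], [4], [5], [6], [7], [8], [9], [10], [11], [12]]

/-- Chains of the traced words. -/
noncomputable def closers : List ℕ := []

end CfsgLib.Recog.FiM22.Enum
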