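import Cfsg.Agent.Lib.Recog.FiM22.Enum.Data

set_option autoImplicit false
set_option maxRecDepth 20000
set_option Elab.async false

/-! Checks of the certificate, part 10. -/

namespace CfsgLib.Recog.FiM22.Enum
open CfsgLib.Recog.SporBound
open CfsgLib.ThreeTrans.CosetIndex (forallFrom)

theorem steps63 : cert.stepsPart 315 5 = true := by decide +kernel

theorem steps64 : cert.stepsPart 320 5 = true := by decide +kernel

theorem steps65 : cert.stepsPart 325 5 = true := by decide +kernel

theorem steps66 : cert.stepsPart 330 5 = true := by decide +kernel

theorem steps67 : cert.stepsPart 335 5 = true := by decide +kernel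

theorem steps68 : cert.stepsPart 340 5 = true := by decide +kernel

theorem steps69 : cert.stepsPart 345 5 = true := by decide +kernel

end CfsgLib.Recog.FiM22.Enum
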