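import Cfsg.Agent.Lib.Recog.FiM22.Enum.Data

set_option autoImplicit false
set_option maxRecDepth 20000
set_option Elab.async false

/-! Checks of the certificate, part 12. -/

namespace CfsgLib.Recog.FiM22.Enum
open CfsgLib.Recog.SporBound
open CfsgLib.ThreeTrans.CosetIndex (forallFrom)

theorem steps77 : cert.stepsPart 385 5 = true := by decide +kernel

theorem steps78 : cert.stepsPart 390 5 = true := by decide +kernel

theorem steps79 : cert.stepsPart 395 5 = true := by decide +kernel

theorem steps80 : cert.stepsPart 400 5 = true := by decide +kernel

theorem steps81 : cert.stepsPart 405 5 = true := by decide +kernel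

theorem steps82 : cert.stepsPart 410 5 = true := by decide +kernel

theorem steps83 : cert.stepsPart 415 4 = true := by decide +kernel

end CfsgLib.Recog.FiM22.Enum
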