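import Cfsg.Agent.Lib.Recog.FiM22.Enum.Data

set_option autoImplicit false
set_option maxRecDepth 20000
set_option Elab.async false

/-! Checks of the certificate, part 14. -/

namespace CfsgLib.Recog.FiM22.Enum
open CfsgLib.Recog.SporBound
open CfsgLib.ThreeTrans.CosetIndex (forallFrom)

theorem finals5 : cert.finalsPart 375 75 = true := by decide +kernel

theorem finals6 : cert.finalsPart 450 75 = true := by decide +kernel

theorem finals7 : cert.finalsPart 525 75 = true := by decide +kernel

theorem finals8 : cert.finalsPart 600 75 = true := by decide +kernel

theorem finals9 : cert.finalsPart 675 38 = true := by decide +kernel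

end CfsgLib.Recog.FiM22.Enum
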