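import Cfsg.Agent.Lib.Recog.FiM22.Enum.Data

set_option autoImplicit false
set_option maxRecDepth 20000
set_option Elab.async false

/-! Checks of the certificate, part 2. -/

namespace CfsgLib.Recog.FiM22.Enum
open CfsgLib.Recog.SporBound
open CfsgLib.ThreeTrans.CosetIndex (forallFrom)

theorem steps7 : cert.stepsPart 35 5 = true := by decide +kernel

theorem steps8 : cert.stepsPart 40 5 = true := by decide +kernel

theorem steps9 : cert.stepsPart 45 5 = true := by decide +kernel

theorem steps10 : cert.stepsPart 50 5 = true := by decide +kernel

theorem steps11 : cert.stepsPart 55 5 = true := by decide +kernel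

theorem steps12 : cert.stepsPart 60 5 = true := by decide +kernel

theorem steps13 : cert.stepsPart 65 5 = true := by decide +kernel

end CfsgLib.Recog.FiM22.Enum
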