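import Cfsg.Agent.Lib.Recog.FiM22.Enum.Data

set_option autoImplicit false
set_option maxRecDepth 20000
set_option Elab.async false

/-! Checks of the certificate, part 3. -/

namespace CfsgLib.Recog.FiM22.Enum
open CfsgLib.Recog.SporBound
open CfsgLib.ThreeTrans.CosetIndex (forallFrom)

theorem steps14 : cert.stepsPart 70 5 = true := by decide +kernel

theorem steps15 : cert.stepsPart 75 5 = true := by decide +kernel

theorem steps16 : cert.stepsPart 80 5 = true := by decide +kernel

theorem steps17 : cert.stepsPart 85 5 = true := by decide +kernel

theorem steps18 : cert.stepsPart 90 5 = true := by decide +kernel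

theorem steps19 : cert.stepsPart 95 5 = true := by decide +kernel

theorem steps20 : cert.stepsPart 100 5 = true := by decide +kernel

end CfsgLib.Recog.FiM22.Enum
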