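import Cfsg.Agent.Lib.Recog.FiM22.Enum.Part0
import Cfsg.Agent.Lib.Recog.FiM22.Enum.Part1
import Cfsg.Agent.Lib.Recog.FiM22.Enum.Part2
import Cfsg.Agent.Lib.Recog.FiM22.Enum.Part3
import Cfsg.Agent.Lib.Recog.FiM22.Enum.Part4
import Cfsg.Agent.Lib.Recog.FiM22.Enum.Part5
import Cfsg.Agent.Lib.Recog.FiM22.Enum.Part6
import Cfsg.Agent.Lib.Recog.FiM22.Enum.Part7
import Cfsg.Agent.Lib.Recog.FiM22.Enum.Part8
import Cfsg.Agent.Lib.Recog.FiM22.Enum.Part9
import Cfsg.Agent.Lib.Recog.FiM22.Enum.Part10
import Cfsg.Agent.Lib.Recog.FiM22.Enum.Part11
import Cfsg.Agent.Lib.Recog.FiM22.Enum.Part12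
import Cfsg.Agent.Lib.Recog.FiM22.Enum.Part13
import Cfsg.Agent.Lib.Recog.FiM22.Enum.Part14

set_option autoImplicit false
set_option maxRecDepth 20000

/-! The certificate is valid. -/

namespace CfsgLib.Recog.FiM22.Enum
open CfsgLib.Recog.SporBound
open CfsgLib.ThreeTrans.CosetIndex (forallFrom)

theorem defs_all : forallFrom cert.defOK 0 (cert.nd) = true := by
  have h0 := defs0
  have h1 : forallFrom cert.defOK 0 3000 = true := forallFrom_cat h0 defs1 (by decide +kernel) (by decide +kernel)
  have h2 : forallFrom cert.defOK 0 4500 = true := forallFrom_cat h1 defs2 (by decide +kernel) (by decide +kernel)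
  have h3 : forallFrom cert.defOK 0 5112 = true := forallFrom_cat h2 defs3 (by decide +kernel) (by decide +kernel)
  exact (show 5112 = cert.nd by decide +kernel) ▸ h3

theorem steps_all : cert.stepsPart 0 (cert.stepChunks) = true := by
  have h0 := steps0
  have h1 : cert.stepsPart 0 10 = true := Cert.stepsPart_cat h0 steps1 (by decide +kernel) (by decide +kernel)
  have h2 : cert.stepsPart 0 15 = true := Cert.stepsPart_cat h1 steps2 (by decide +kernel) (by decide +kernel)
  have h3 : cert.stepsPart 0 20 = true := Cert.stepsPart_cat h2 steps3 (by decide +kernel) (by decide +kernel)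
  have h4 : cert.stepsPart 0 25 = true := Cert.stepsPart_cat h3 steps4 (by decide +kernel) (by decide +kernel)
  have h5 : cert.stepsPart 0 30 = true := Cert.stepsPart_cat h4 steps5 (by decide +kernel) (by decide +kernel)
  have h6 : cert.stepsPart 0 35 = true := Cert.stepsPart_cat h5 steps6 (by decide +kernel) (by decide +kernel)
  have h7 : cert.stepsPart 0 40 = true := Cert.stepsPart_cat h6 steps7 (by decide +kernel) (by decide +kernel)
  have h8 : cert.stepsPart 0 45 = true := Cert.stepsPart_cat h7 steps8 (by decide +kernel) (by decide +kernel)
  have h9 : cert.stepsPart 0 50 = true := Cert.stepsPart_cat h8 steps9 (by decide +kernel) (by decide +kernel)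
  have h10 : cert.stepsPart 0 55 = true := Cert.stepsPart_cat h9 steps10 (by decide +kernel) (by decide +kernel)
  have h11 : cert.stepsPart 0 60 = true := Cert.stepsPart_cat h10 steps11 (by decide +kernel) (by decide +kernel)
  have h12 : cert.stepsPart 0 65 = true := Cert.stepsPart_cat h11 steps12 (by decide +kernel) (by decide +kernel)
  have h13 : cert.stepsPart 0 70 = true := Cert.stepsPart_cat h12 steps13 (by decide +kernel) (by decide +kernel)
  have h14 : cert.stepsPart 0 75 = true := Cert.stepsPart_cat h13 steps14 (by decide +kernel) (by decide +kernel)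
  have h15 : cert.stepsPart 0 80 = true := Cert.stepsPart_cat h14 steps15 (by decide +kernel) (by decide +kernel)
  have h16 : cert.stepsPart 0 85 = true := Cert.stepsPart_cat h15 steps16 (by decide +kernel) (by decide +kernel)
  have h17 : cert.stepsPart 0 90 = true := Cert.stepsPart_cat h16 steps17 (by decide +kernel) (by decide +kernel)
  have h18 : cert.stepsPart 0 95 = true := Cert.stepsPart_cat h17 steps18 (by decide +kernel) (by decide +kernel)
  have h19 : cert.stepsPart 0 100 = true := Cert.stepsPart_cat h18 steps19 (by decide +kernel) (by decide +kernel)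
  have h20 : cert.stepsPart 0 105 = true := Cert.stepsPart_cat h19 steps20 (by decide +kernel) (by decide +kernel)
  have h21 : cert.stepsPart 0 110 = true := Cert.stepsPart_cat h20 steps21 (by decide +kernel) (by decide +kernel)
  have h22 : cert.stepsPart 0 115 = true := Cert.stepsPart_cat h21 steps22 (by decide +kernel) (by decide +kernel)
  have h23 : cert.stepsPart 0 120 = true := Cert.stepsPart_cat h22 steps23 (by decide +kernel) (by decide +kernel)
  have h24 : cert.stepsPart 0 125 = true := Cert.stepsPart_cat h23 steps24 (by decide +kernel) (by decide +kernel)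
  have h25 : cert.stepsPart 0 130 = true := Cert.stepsPart_cat h24 steps25 (by decide +kernel) (by decide +kernel)
  have h26 : cert.stepsPart 0 135 = true := Cert.stepsPart_cat h25 steps26 (by decide +kernel) (by decide +kernel)
  have h27 : cert.stepsPart 0 140 = true := Cert.stepsPart_cat h26 steps27 (by decide +kernel) (by decide +kernel)
  have h28 : cert.stepsPart 0 145 = true := Cert.stepsPart_cat h27 steps28 (by decide +kernel) (by decide +kernel)
  have h29 : cert.stepsPart 0 150 = true := Cert.stepsPart_cat h28 steps29 (by decide +kernel) (by decide +kernel)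
  have h30 : cert.stepsPart 0 155 = true := Cert.stepsPart_cat h29 steps30 (by decide +kernel) (by decide +kernel)
  have h31 : cert.stepsPart 0 160 = true := Cert.stepsPart_cat h30 steps31 (by decide +kernel) (by decide +kernel)
  have h32 : cert.stepsPart 0 165 = true := Cert.stepsPart_cat h31 steps32 (by decide +kernel) (by decide +kernel)
  have h33 : cert.stepsPart 0 170 = true := Cert.stepsPart_cat h32 steps33 (by decide +kernel) (by decide +kernel)
  have h34 : cert.stepsPart 0 175 = true := Cert.stepsPart_cat h33 steps34 (by decide +kernel) (by decide +kernel)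
  have h35 : cert.stepsPart 0 180 = true := Cert.stepsPart_cat h34 steps35 (by decide +kernel) (by decide +kernel)
  have h36 : cert.stepsPart 0 185 = true := Cert.stepsPart_cat h35 steps36 (by decide +kernel) (by decide +kernel)
  have h37 : cert.stepsPart 0 190 = true := Cert.stepsPart_cat h36 steps37 (by decide +kernel) (by decide +kernel)
  have h38 : cert.stepsPart 0 195 = true := Cert.stepsPart_cat h37 steps38 (by decide +kernel) (by decide +kernel)
  have h39 : cert.stepsPart 0 200 = true := Cert.stepsPart_cat h38 steps39 (by decide +kernel) (by decide +kernel)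
  have h40 : cert.stepsPart 0 205 = true := Cert.stepsPart_cat h39 steps40 (by decide +kernel) (by decide +kernel)
  have h41 : cert.stepsPart 0 210 = true := Cert.stepsPart_cat h40 steps41 (by decide +kernel) (by decide +kernel)
  have h42 : cert.stepsPart 0 215 = true := Cert.stepsPart_cat h41 steps42 (by decide +kernel) (by decide +kernel)
  have h43 : cert.stepsPart 0 220 = true := Cert.stepsPart_cat h42 steps43 (by decide +kernel) (by decide +kernel)
  have h44 : cert.stepsPart 0 225 = true := Cert.stepsPart_cat h43 steps44 (by decide +kernel) (by decide +kernel)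
  have h45 : cert.stepsPart 0 230 = true := Cert.stepsPart_cat h44 steps45 (by decide +kernel) (by decide +kernel)
  have h46 : cert.stepsPart 0 235 = true := Cert.stepsPart_cat h45 steps46 (by decide +kernel) (by decide +kernel)
  have h47 : cert.stepsPart 0 240 = true := Cert.stepsPart_cat h46 steps47 (by decide +kernel) (by decide +kernel)
  have h48 : cert.stepsPart 0 245 = true := Cert.stepsPart_cat h47 steps48 (by decide +kernel) (by decide +kernel)
  have h49 : cert.stepsPart 0 250 = true := Cert.stepsPart_cat h48 steps49 (by decide +kernel) (by decide +kernel)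
  have h50 : cert.stepsPart 0 255 = true := Cert.stepsPart_cat h49 steps50 (by decide +kernel) (by decide +kernel)
  have h51 : cert.stepsPart 0 260 = true := Cert.stepsPart_cat h50 steps51 (by decide +kernel) (by decide +kernel)
  have h52 : cert.stepsPart 0 265 = true := Cert.stepsPart_cat h51 steps52 (by decide +kernel) (by decide +kernel)
  have h53 : cert.stepsPart 0 270 = true := Cert.stepsPart_cat h52 steps53 (by decide +kernel) (by decide +kernel)
  have h54 : cert.stepsPart 0 275 = true := Cert.stepsPart_cat h53 steps54 (by decide +kernel) (by decide +kernel)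
  have h55 : cert.stepsPart 0 280 = true := Cert.stepsPart_cat h54 steps55 (by decide +kernel) (by decide +kernel)
  have h56 : cert.stepsPart 0 285 = true := Cert.stepsPart_cat h55 steps56 (by decide +kernel) (by decide +kernel)
  have h57 : cert.stepsPart 0 290 = true := Cert.stepsPart_cat h56 steps57 (by decide +kernel) (by decide +kernel)
  have h58 : cert.stepsPart 0 295 = true := Cert.stepsPart_cat h57 steps58 (by decide +kernel) (by decide +kernel)
  have h59 : cert.stepsPart 0 300 = true := Cert.stepsPart_cat h58 steps59 (by decide +kernel) (by decide +kernel)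
  have h60 : cert.stepsPart 0 305 = true := Cert.stepsPart_cat h59 steps60 (by decide +kernel) (by decide +kernel)
  have h61 : cert.stepsPart 0 310 = true := Cert.stepsPart_cat h60 steps61 (by decide +kernel) (by decide +kernel)
  have h62 : cert.stepsPart 0 315 = true := Cert.stepsPart_cat h61 steps62 (by decide +kernel) (by decide +kernel)
  have h63 : cert.stepsPart 0 320 = true := Cert.stepsPart_cat h62 steps63 (by decide +kernel) (by decide +kernel)
  have h64 : cert.stepsPart 0 325 = true := Cert.stepsPart_cat h63 steps64 (by decide +kernel) (by decide +kernel)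
  have h65 : cert.stepsPart 0 330 = true := Cert.stepsPart_cat h64 steps65 (by decide +kernel) (by decide +kernel)
  have h66 : cert.stepsPart 0 335 = true := Cert.stepsPart_cat h65 steps66 (by decide +kernel) (by decide +kernel)
  have h67 : cert.stepsPart 0 340 = true := Cert.stepsPart_cat h66 steps67 (by decide +kernel) (by decide +kernel)
  have h68 : cert.stepsPart 0 345 = true := Cert.stepsPart_cat h67 steps68 (by decide +kernel) (by decide +kernel)
  have h69 : cert.stepsPart 0 350 = true := Cert.stepsPart_cat h68 steps69 (by decide +kernel) (by decide +kernel)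
  have h70 : cert.stepsPart 0 355 = true := Cert.stepsPart_cat h69 steps70 (by decide +kernel) (by decide +kernel)
  have h71 : cert.stepsPart 0 360 = true := Cert.stepsPart_cat h70 steps71 (by decide +kernel) (by decide +kernel)
  have h72 : cert.stepsPart 0 365 = true := Cert.stepsPart_cat h71 steps72 (by decide +kernel) (by decide +kernel)
  have h73 : cert.stepsPart 0 370 = true := Cert.stepsPart_cat h72 steps73 (by decide +kernel) (by decide +kernel)
  have h74 : cert.stepsPart 0 375 = true := Cert.stepsPart_cat h73 steps74 (by decide +kernel) (by decide +kernel)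
  have h75 : cert.stepsPart 0 380 = true := Cert.stepsPart_cat h74 steps75 (by decide +kernel) (by decide +kernel)
  have h76 : cert.stepsPart 0 385 = true := Cert.stepsPart_cat h75 steps76 (by decide +kernel) (by decide +kernel)
  have h77 : cert.stepsPart 0 390 = true := Cert.stepsPart_cat h76 steps77 (by decide +kernel) (by decide +kernel)
  have h78 : cert.stepsPart 0 395 = true := Cert.stepsPart_cat h77 steps78 (by decide +kernel) (by decide +kernel)
  have h79 : cert.stepsPart 0 400 = true := Cert.stepsPart_cat h78 steps79 (by decide +kernel) (by decide +kernel)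
  have h80 : cert.stepsPart 0 405 = true := Cert.stepsPart_cat h79 steps80 (by decide +kernel) (by decide +kernel)
  have h81 : cert.stepsPart 0 410 = true := Cert.stepsPart_cat h80 steps81 (by decide +kernel) (by decide +kernel)
  have h82 : cert.stepsPart 0 415 = true := Cert.stepsPart_cat h81 steps82 (by decide +kernel) (by decide +kernel)
  have h83 : cert.stepsPart 0 419 = true := Cert.stepsPart_cat h82 steps83 (by decide +kernel) (by decide +kernel)
  exact (show 419 = cert.stepChunks by decide +kernel) ▸ h83

theorem finals_all : cert.finalsPart 0 (cert.finalChunks) = true := by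
  have h0 := finals0
  have h1 : cert.finalsPart 0 150 = true := Cert.finalsPart_cat h0 finals1 (by decide +kernel) (by decide +kernel)
  have h2 : cert.finalsPart 0 225 = true := Cert.finalsPart_cat h1 finals2 (by decide +kernel) (by decide +kernel)
  have h3 : cert.finalsPart 0 300 = true := Cert.finalsPart_cat h2 finals3 (by decide +kernel) (by decide +kernel)
  have h4 : cert.finalsPart 0 375 = true := Cert.finalsPart_cat h3 finals4 (by decide +kernel) (by decide +kernel)
  have h5 : cert.finalsPart 0 450 = true := Cert.finalsPart_cat h4 finals5 (by decide +kernel) (by decide +kernel)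
  have h6 : cert.finalsPart 0 525 = true := Cert.finalsPart_cat h5 finals6 (by decide +kernel) (by decide +kernel)
  have h7 : cert.finalsPart 0 600 = true := Cert.finalsPart_cat h6 finals7 (by decide +kernel) (by decide +kernel)
  have h8 : cert.finalsPart 0 675 = true := Cert.finalsPart_cat h7 finals8 (by decide +kernel) (by decide +kernel)
  have h9 : cert.finalsPart 0 713 = true := Cert.finalsPart_cat h8 finals9 (by decide +kernel) (by decide +kernel)
  exact (show 713 = cert.finalChunks by decide +kernel) ▸ h9

theorem ok : cert.OK where
  base := by decide +kernel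
  defs := defs_all
  steps := steps_all
  finals := finals_all

end CfsgLib.Recog.FiM22.Enum
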